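import Mathlib
import Cfsg.Agent.Lib.HermCount.Field

/-!
# Field lemmas for products of three unitary transvections

Given `A` in `F` not fixed by the involution `σ`, we find `x y z` in the fixed field, non-zero,
and `ρ` with `A = x + y + z + ρ` and `ρ σ(ρ) = - x y z`.
-/

set_option autoImplicit false

namespace Cfsg.Agent.Lib.SzFaithful.U3Field

open Cfsg.Agent.Lib.HermCount.Field

variable {F : Type*} [Field F]

/-- The general construction, `2 ≠ 0` and a fixed element `k ≠ 0, ±1`. -/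
theorem exists_xyz_odd (σ : F →+* F) (hσ : ∀ a, σ (σ a) = a) (h2 : (2 : F) ≠ 0) {k : F}
    (hk : σ k = k) (hk0 : k ≠ 0) (hk1 : k ≠ 1) (hk2 : k ≠ -1) (A : F) (hA : σ A ≠ A) :
    ∃ x y z ρ : F, σ x = x ∧ σ y = y ∧ σ z = z ∧ x ≠ 0 ∧ y ≠ 0 ∧ z ≠ 0 ∧
      A = x + y + z + ρ ∧ ρ * σ ρ = -(x * y * z) := by
  have hs2 : σ 2 = 2 := map_ofNat σ 2
  have hs4 : σ 4 = 4 := map_ofNat σ 4
  set T := A + σ A with hT
  set n := A * σ A with hn
  have hTs : σ T = T := by rw [hT, map_add, hσ]; ring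
  have hns : σ n = n := by rw [hn, map_mul, hσ]; ring
  set κ := (k - 1) ^ 2 / k with hκ
  set u := (1 - k ^ 2) / k with hu
  have hκs : σ κ = κ := by simp [hκ, map_div₀, hk]
  have hus : σ u = u := by simp [hu, map_div₀, hk]
  have hκ0 : κ ≠ 0 := div_ne_zero (pow_ne_zero _ (sub_ne_zero.2 hk1)) hk0
  have hk21 : 1 - k ^ 2 ≠ 0 := by
    intro h
    have h3 : (k - 1) * (k + 1) = 0 := by linear_combination -h
    rcases mul_eq_zero.1 h3 with h4 | h4
    · exact hk1 (sub_eq_zero.1 h4)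
    · exact hk2 (eq_neg_of_add_eq_zero_left h4)
  have hu0 : u ≠ 0 := div_ne_zero hk21 hk0
  have hκu : u ^ 2 = κ ^ 2 + 4 * κ := by
    rw [hκ, hu]
    field_simp
    ring
  set b := 4 * κ ^ 2 - 2 * κ * T with hb
  have hbs : σ b = b := by simp [hb, hκs, hTs, hs4, hs2]
  set d := T ^ 2 - 4 * n with hd
  have hds : σ d = d := by simp [hd, hTs, hns, hs4]
  have hdl : ∀ l : F, σ l = l → d ≠ l ^ 2 := by
    intro l hl hdl
    set t₀ := (T + l) / 2 with ht₀
    have ht₀s : σ t₀ = t₀ := by simp [ht₀, map_div₀, hTs, hl, hs2]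
    have h2t : 2 * t₀ = T + l := by rw [ht₀]; field_simp
    have h3 : (A - t₀) * (σ A - t₀) = 0 := by
      have h4 : (2 : F) ^ 2 * ((A - t₀) * (σ A - t₀)) = 0 := by
        have e : (A - t₀) * (σ A - t₀) = n - T * t₀ + t₀ ^ 2 := by rw [hn, hT]; ring
        rw [e]
        have e2 : (2 : F) ^ 2 * (n - T * t₀ + t₀ ^ 2) = 4 * n - 2 * T * (2 * t₀) + (2 * t₀) ^ 2 := by ring
        rw [e2, h2t]
        have e3 : d = T ^ 2 - 4 * n := hd
        linear_combination -hdl - e3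
      exact (mul_eq_zero.1 h4).resolve_left (pow_ne_zero _ h2)
    rcases mul_eq_zero.1 h3 with h4 | h4
    · have h5 : A = t₀ := sub_eq_zero.1 h4
      apply hA
      rw [h5, ht₀s]
    · have h5 : σ A = t₀ := sub_eq_zero.1 h4
      apply hA
      have h6 : σ (σ A) = σ t₀ := by rw [h5]
      rw [hσ, ht₀s] at h6
      rw [h5, h6]
  obtain ⟨l, hl, hl0⟩ : ∃ l : F, σ l = l ∧ 2 * u * l - b ≠ 0 := by
    by_cases hb0 : b = 0
    · refine ⟨1, map_one σ, ?_⟩
      rw [hb0, sub_zero, mul_one]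
      exact mul_ne_zero h2 hu0
    · refine ⟨0, map_zero σ, ?_⟩
      rw [mul_zero, zero_sub]
      exact neg_ne_zero.2 hb0
  set x := (d - l ^ 2) / (2 * u * l - b) with hx
  have hxs : σ x = x := by
    simp only [hx, map_div₀, map_sub, map_mul, map_pow, hds, hl, hus, hbs, hs2]
  have hx0 : x ≠ 0 := div_ne_zero (sub_ne_zero.2 (hdl l hl)) hl0
  have hxd : x * (2 * u * l - b) = d - l ^ 2 := by rw [hx]; exact div_mul_cancel₀ _ hl0
  set w := u * x + l with hw
  have hws : σ w = w := by simp only [hw, map_add, map_mul, hus, hxs, hl]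
  have hww : w ^ 2 = (x * κ - T) ^ 2 - 4 * n + 4 * (x * κ) * (x + κ) := by
    have e1 : w ^ 2 = u ^ 2 * x ^ 2 + x * (2 * u * l) + l ^ 2 := by rw [hw]; ring
    rw [e1, hκu]
    have e2 : x * (2 * u * l) = x * b + (d - l ^ 2) := by rw [← hxd]; ring
    rw [e2, hb, hd]
    ring
  set t := (T - x * κ + w) / 2 with ht
  have hts : σ t = t := by
    simp only [ht, map_div₀, map_sub, map_add, map_mul, hTs, hxs, hκs, hws, hs2]
  have h2t : 2 * t = T - x * κ + w := by rw [ht]; field_simp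
  have hwt : w = 2 * t + x * κ - T := by linear_combination -h2t
  have hquad : t ^ 2 - T * t + n = -(x * κ * (t - x - κ)) := by
    have h4 : (2 : F) ^ 2 * (t ^ 2 - T * t + n + x * κ * (t - x - κ)) = 0 := by
      rw [hwt] at hww
      linear_combination hww
    have h5 := (mul_eq_zero.1 h4).resolve_left (pow_ne_zero _ h2)
    linear_combination h5
  have hN : (A - t) * σ (A - t) = t ^ 2 - T * t + n := by
    rw [map_sub, hts, hT, hn]
    ring
  have hρ0 : A - t ≠ 0 := by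
    intro h
    apply hA
    rw [sub_eq_zero.1 h, hts]
  have hρs0 : σ (A - t) ≠ 0 := by
    intro h
    exact hρ0 ((map_eq_zero_iff σ σ.injective).1 h)
  refine ⟨x, κ, t - x - κ, A - t, hxs, hκs, ?_, hx0, hκ0, ?_, by ring, ?_⟩
  · simp only [map_sub, hts, hxs, hκs]
  · intro hz
    apply mul_ne_zero hρ0 hρs0
    rw [hN, hquad, hz]
    ring
  · rw [hN, hquad]

variable [Fintype F] {q : ℕ}

/-- An element of the fixed field different from `0, ±1`. -/
theorem exists_fixed_ne (hF : Fintype.card F = q ^ 2) (hq : 4 ≤ q) :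
    ∃ k : F, k ^ q = k ∧ k ≠ 0 ∧ k ≠ 1 ∧ k ≠ -1 := by
  classical
  obtain ⟨γ, hγ⟩ := IsCyclic.exists_generator (α := Fˣ)
  have hord : orderOf γ = q ^ 2 - 1 := by
    rw [orderOf_eq_card_of_forall_mem_zpowers hγ, Nat.card_eq_fintype_card, Fintype.card_units, hF]
  have hsq : ((γ ^ (q + 1) : Fˣ) : F) ^ 2 ≠ 1 := by
    intro h
    have h1 : (γ ^ (q + 1)) ^ 2 = 1 := Units.ext (by simpa using h)
    rw [← pow_mul] at h1
    have h2 := orderOf_dvd_of_pow_eq_one h1
    rw [hord] at h2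
    have h3 := Nat.le_of_dvd (by positivity) h2
    have h4 : q ^ 2 = q * q := sq q
    have h5 : 4 * q ≤ q * q := Nat.mul_le_mul_right q hq
    omega
  refine ⟨((γ ^ (q + 1) : Fˣ) : F), ?_, Units.ne_zero _, ?_, ?_⟩
  · have h1 : (γ ^ (q + 1)) ^ q = γ ^ (q + 1) := by
      rw [← pow_mul]
      have h2 : (q + 1) * q = (q ^ 2 - 1) + (q + 1) := by
        have : 1 ≤ q ^ 2 := Nat.one_le_pow _ _ (by omega)
        zify [this]
        ring
      rw [h2, pow_add, ← hord, pow_orderOf_eq_one, one_mul]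
    exact_mod_cast congrArg (fun u : Fˣ => (u : F)) h1
  · intro h
    rw [h] at hsq
    simp at hsq
  · intro h
    rw [h] at hsq
    simp at hsq

/-- The solution in characteristic two. -/
theorem exists_xyz_two [CharP F 2] (hF : Fintype.card F = q ^ 2) (A : F) (hA : A ^ q ≠ A) :
    ∃ x y z ρ : F, x ^ q = x ∧ y ^ q = y ∧ z ^ q = z ∧ x ≠ 0 ∧ y ≠ 0 ∧ z ≠ 0 ∧
      A = x + y + z + ρ ∧ ρ * ρ ^ q = -(x * y * z) := by
  have h20 : (2 : F) = 0 := CharTwo.two_eq_zero
  have hq0 : q ≠ 0 := by have := two_le hF; omega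
  have hfq : ∀ a b : F, (a - b) ^ q = a ^ q - b ^ q := by
    intro a b
    have h := frob_add hF (a - b) b
    rw [sub_add_cancel] at h
    rw [h, add_sub_cancel_right]
  have hρ0 : A - 1 ≠ 0 := by
    intro h
    apply hA
    rw [sub_eq_zero.1 h, one_pow]
  have hρq0 : (A - 1) ^ q ≠ 0 := pow_ne_zero _ hρ0
  obtain ⟨x, hx⟩ : IsSquare ((A - 1) * (A - 1) ^ q) := FiniteField.isSquare_of_char_two (by
    rw [CharP.ringChar_of_prime_eq_zero Nat.prime_two h20]) _
  have hx0 : x ≠ 0 := by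
    rintro rfl
    rw [mul_zero] at hx
    exact mul_ne_zero hρ0 hρq0 hx
  have hxq : x ^ q = x := by
    have h1 : (x ^ q) * (x ^ q) = x * x := by
      rw [← mul_pow, ← hx, mul_pow, frob_frob hF]
      ring
    have h2 : (x ^ q - x) * (x ^ q - x) = 0 := by
      linear_combination h1 + (x * (x - x ^ q)) * h20
    have h3 := mul_self_eq_zero.1 h2
    exact sub_eq_zero.1 h3
  refine ⟨x, x, 1, A - 1, hxq, hxq, one_pow _, hx0, hx0, one_ne_zero, ?_, ?_⟩
  · linear_combination (-x) * h20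
  · rw [hx]
    linear_combination (x * x) * h20

end Cfsg.Agent.Lib.SzFaithful.U3Field
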